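import Groth.Agent.StabLib.Morph
import Groth.Agent.StabLib.Bridge

/-!
# Semistable sheaves with a fixed reduced polynomial form an abelian category
-/

set_option autoImplicit false
set_option linter.style.haveILetI false
set_option backward.isDefEq.respectTransparency false
set_option maxHeartbeats 800000
universe u

open CategoryTheory CategoryTheory.Limits AlgebraicGeometry Polynomial
open StabLib HilbPolyLib DevissLib

noncomputable section

namespace SemiAbelLib

variable {X : Scheme.{u}} {k : Type u} [Field k] [X.Over (Spec (CommRingCat.of k))]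
  [IsProper (X ↘ Spec (CommRingCat.of k))] {L : X.Modules} (hA : CohB1.IsAmple L) {d : ℕ}

theorem add_smul_eq_zero {a b : ℚ} (ha : 0 < a) (hb : 0 < b) {P Q : ℚ[X]} (hP : Nn P) (hQ : Nn Q)
    (h : a • P + b • Q = 0) : P = 0 ∧ Q = 0 := by
  have h1 : a • P = 0 := (hP.smul ha.le).eq_zero_of_neg (by rw [neg_eq_of_add_eq_zero_right h]; exact hQ.smul hb.le)
  rw [h1, zero_add] at h
  exact ⟨(smul_eq_zero.mp h1).resolve_left ha.ne', (smul_eq_zero.mp h).resolve_left hb.ne'⟩

include hA in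
theorem image_red {E F : X.Modules} (hE : ShStab.IsSemistable k X L E d) (hF : ShStab.IsSemistable k X L F d)
    (hred : dd d (HPoly k L E) (HPoly k L F) = 0) (f : E ⟶ F) :
    dd d (HPoly k L E) (HPoly k L (Abelian.image f)) = 0 ∧
      dd d (HPoly k L (Abelian.image f)) (HPoly k L F) = 0 := by
  haveI := CurvLib.isNoetherian k (X := X)
  have hI := DevissLib.isCoh_image f hE.1 hF.1
  by_cases hz : IsZero (Abelian.image f)
  · rw [hPoly_zero hA hz]
    exact ⟨dd_zero_right d _, dd_zero_left d _⟩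
  have hαE := alpha_pos_of_pure (k := k) hA hE.2.2.1 (𝟙 E) hE.1 hE.2.1
  have hαF := alpha_pos_of_pure (k := k) hA hF.2.2.1 (𝟙 F) hF.1 hF.2.1
  have h := smul_dd_trans d (HPoly k L E) (HPoly k L (Abelian.image f)) (HPoly k L F)
  rw [hred, smul_zero] at h
  obtain ⟨h1, h2⟩ := add_smul_eq_zero hαE hαF (sub_le hA hF (Abelian.image.ι f) hI)
    (quot_ge hA hE (Abelian.factorThruImage f) hI) h.symm
  exact ⟨h2, h1⟩

include hA in
theorem semi_sub {E K : X.Modules} (hE : ShStab.IsSemistable k X L E d) (i : K ⟶ E) [Mono i]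
    (hK : Coh.IsCoh K) (h0 : ¬ IsZero K) (hred : dd d (HPoly k L K) (HPoly k L E) = 0) :
    ShStab.IsSemistable k X L K d := by
  have hαE := alpha_pos_of_pure (k := k) hA hE.2.2.1 (𝟙 E) hE.1 hE.2.1
  refine ⟨hK, h0, fun G κ hκ hG hG0 => hE.2.2.1 G (κ ≫ i) inferInstance hG hG0, fun G κ hκ hG hG0 hi => ?_⟩
  haveI := hκ
  refine (redLE_hPoly_iff hA hG hK).mpr ?_
  have h := smul_dd_trans d (HPoly k L G) (HPoly k L K) (HPoly k L E)
  rw [hred, smul_zero, zero_add] at h
  rw [← nn_smul_iff hαE, ← h, nn_smul_iff (alpha_pos_of_pure (k := k) hA hE.2.2.1 i hK h0)]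
  exact sub_le hA hE (κ ≫ i) hG

include hA in
theorem semi_quot {F Q : X.Modules} (hF : ShStab.IsSemistable k X L F d) (π : F ⟶ Q) [Epi π]
    (hQ : Coh.IsCoh Q) (h0 : ¬ IsZero Q) (hred : dd d (HPoly k L (kernel π)) (HPoly k L F) = 0) :
    ShStab.IsSemistable k X L Q d ∧ dd d (HPoly k L Q) (HPoly k L F) = 0 := by
  haveI := CurvLib.isNoetherian k (X := X)
  have hαF := alpha_pos_of_pure (k := k) hA hF.2.2.1 (𝟙 F) hF.1 hF.2.1
  have hdimF : topologicalKrullDim (CohB1.support F) = (d : ℕ) := hF.2.2.1 F (𝟙 F) inferInstance hF.1 hF.2.1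
  have hFQ : dd d (HPoly k L Q) (HPoly k L F) = 0 := by
    rw [dd_swap, quot_eq hA π hF.1 hQ, hred, neg_zero]
  have key : ∀ (S : X.Modules) (κ : S ⟶ Q), Mono κ → Coh.IsCoh S → Nn (dd d (HPoly k L S) (HPoly k L F)) := by
    intro S κ hκ hS
    haveI := hκ
    have hC := QCohLib.isCoh_cokernel κ hS.1 hQ
    let P' := kernel (π ≫ cokernel.π κ)
    have hP' : Coh.IsCoh P' := QCohLib.isCoh_kernel _ hF.1 hC.1
    have e1 := hPoly_ker (k := k) hA (π ≫ cokernel.π κ) hF.1 hC
    have e2 := hPoly_ker (k := k) hA π hF.1 hQ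
    have e3 := hPoly_coker (k := k) hA κ hS hQ
    have hsum : HPoly k L P' = HPoly k L (kernel π) + HPoly k L S := by
      rw [e2, e3] at e1
      linear_combination -e1
    have h := sub_le hA hF (kernel.ι (π ≫ cokernel.π κ)) hP'
    rwa [hsum, dd_add_left, hred, zero_add] at h
  refine ⟨⟨hQ, h0, fun S κ hκ hS hS0 => ?_, fun S κ hκ hS hS0 hi => ?_⟩, hFQ⟩
  · haveI := hκ
    have hSd : topologicalKrullDim (CohB1.support S) ≤ (d : ℕ) :=
      (dim_mono ((support_mono κ).trans (support_epi π))).trans hdimF.le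
    refine (hPoly_alpha_pos_iff (k := k) hA hS hSd).mp ?_
    refine lt_of_le_of_ne (alpha_nonneg d (hPoly_deg hA hS hSd) (hPoly_nn hA hS)) fun h => ?_
    have hn := key S κ hκ hS
    rw [dd_of_alpha_zero d h.symm, nn_neg_iff] at hn
    exact hn ((ps_smul_iff hαF).mpr (hPoly_ps hA hS hS0))
  · refine (redLE_hPoly_iff hA hS hQ).mpr ?_
    have h := smul_dd_trans d (HPoly k L S) (HPoly k L Q) (HPoly k L F)
    have hQd : topologicalKrullDim (CohB1.support Q) ≤ (d : ℕ) := (dim_mono (support_epi π)).trans hdimF.le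
    rw [hFQ, smul_zero, zero_add] at h
    rw [← nn_smul_iff hαF, ← h]
    exact (key S κ hκ hS).smul (alpha_nonneg d (hPoly_deg hA hQ hQd) (hPoly_nn hA hQ))

include hA in
theorem kernel_cokernel {E F : X.Modules} (hE : ShStab.IsSemistable k X L E d)
    (hF : ShStab.IsSemistable k X L F d) {pE pF : ℚ[X]} (hpE : ShStab.IsHilbPoly k X L E pE)
    (hpF : ShStab.IsHilbPoly k X L F pF) (hred : StabCat.RedEq d pE pF) (f : E ⟶ F) :
    (IsZero (kernel f) ∨ (ShStab.IsSemistable k X L (kernel f) d ∧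
        ∀ pK : ℚ[X], ShStab.IsHilbPoly k X L (kernel f) pK → StabCat.RedEq d pK pE)) ∧
    (IsZero (cokernel f) ∨ (ShStab.IsSemistable k X L (cokernel f) d ∧
        ∀ pQ : ℚ[X], ShStab.IsHilbPoly k X L (cokernel f) pQ → StabCat.RedEq d pQ pE)) := by
  haveI := CurvLib.isNoetherian k (X := X)
  obtain rfl := hPoly_eq (k := k) hA hE.1 hpE
  obtain rfl := hPoly_eq (k := k) hA hF.1 hpF
  have hαF := alpha_pos_of_pure (k := k) hA hF.2.2.1 (𝟙 F) hF.1 hF.2.1
  obtain ⟨h1, h2⟩ := image_red hA hE hF ((redEq_iff d).mp hred) f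
  have hI := DevissLib.isCoh_image f hE.1 hF.1
  have hK := QCohLib.isCoh_kernel f hE.1 hF.1.1
  have hQ := QCohLib.isCoh_cokernel f hE.1.1 hF.1
  constructor
  · by_cases hz : IsZero (kernel f)
    · exact Or.inl hz
    have eK : HPoly k L E = HPoly k L (kernel f) + HPoly k L (Abelian.image f) := by
      rw [hPoly_ker (k := k) hA (Abelian.factorThruImage f) hE.1 hI]
      congr 1
      exact hPoly_congr hA (QCohLib.isCoh_kernel _ hE.1 hI.1)
        ((kernelCompMono (Abelian.factorThruImage f) (Abelian.image.ι f)).symm ≪≫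
          kernelIsoOfEq (Abelian.image.fac f))
    have hKE : dd d (HPoly k L (kernel f)) (HPoly k L E) = 0 := by
      have h := h1
      rw [show HPoly k L (Abelian.image f) = HPoly k L E - HPoly k L (kernel f) from eq_sub_of_add_eq' eK.symm,
        dd_sub_right, dd_self, zero_sub, neg_eq_zero] at h
      rw [dd_swap, h, neg_zero]
    exact Or.inr ⟨semi_sub hA hE (kernel.ι f) hK hz hKE, fun p hp => by
      rw [redEq_iff, ← hPoly_eq hA hK hp, hKE]⟩
  · by_cases hz : IsZero (cokernel f)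
    · exact Or.inl hz
    obtain ⟨hs, hr⟩ := semi_quot hA hF (cokernel.π f) hQ hz h2
    refine Or.inr ⟨hs, fun p hp => ?_⟩
    rw [redEq_iff, ← hPoly_eq hA hQ hp]
    have h := smul_dd_trans d (HPoly k L (cokernel f)) (HPoly k L F) (HPoly k L E)
    rw [hr, smul_zero, add_zero, dd_swap d (HPoly k L E) (HPoly k L F), (redEq_iff d).mp hred,
      neg_zero, smul_zero] at h
    exact (smul_eq_zero.mp h).resolve_left hαF.ne'

end SemiAbelLib
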